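import Mathlib
import Cfsg.Prelude.Def_Classification2
import Cfsg.Agent.Prune
set_option linter.all false
prune_inst 0x7f00000000000000000000000000000000000000000000000000000000000000000000000000000000000000000000000000000000000000000000000000000000000000000000000000000000000000003fffffffffffffffffffffffffffbeffbdffffffff
open scoped Cfsg.Agent.FastGrp

/-!
# S3635: the prime graph of `F₄(2^k)`, `²F₄(q)`, `G₂(3^k)`: interface (helper415, hub)

* `SameG G L` : `G` and `L` have the same prime graph;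
* `Ip T n` : `n` is an odd number whose set of prime divisors is isolated in the prime graph of `T`;
* `Fix L r n` : in every module in characteristic `r` some element of prime order dividing `n` fixes a nonzero vector;
* `Frm` : the frame (solvable radical `K`, simple socle `S` of `G / K`), proved in `H415/PG/Frame.lean`;
* `Hyp L S n₁ n₂` : what is known about `S`; `Ident L n₁ n₂` : identification of the simple group.
-/

set_option autoImplicit false

namespace Cfsg.Agent.H415.PG3

universe u v w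

/-- the classification -/
def Cl : Prop := ∀ (T : Type u) [Group T] [Finite T] [IsSimpleGroup T], Cfsg.IsKnownSimple' T

/-- the same prime graph -/
def SameG (L : Type v) [Group L] (G : Type u) [Group G] : Prop :=
  (∀ r : ℕ, r.Prime → (r ∣ Nat.card L ↔ r ∣ Nat.card G)) ∧
    (∀ r s : ℕ, r.Prime → s.Prime → r ≠ s → ((∃ x : L, orderOf x = r * s) ↔ (∃ y : G, orderOf y = r * s)))

/-- `n` is odd, its prime divisors divide the order of `T` and are not adjacent to the other primes -/
structure Ip (T : Type*) [Group T] (n : ℕ) : Prop where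
  dvd : ∀ r : ℕ, r.Prime → r ∣ n → r ∣ Nat.card T
  iso : ∀ r s : ℕ, r.Prime → s.Prime → r ∣ n → ¬ s ∣ n → ¬ ∃ x : T, orderOf x = r * s
  not_two_dvd : ¬ 2 ∣ n
  one_lt : 1 < n

theorem Ip.congr {T T' : Type*} [Group T] [Group T'] {n : ℕ} (h : Ip T n) (e : T ≃* T') : Ip T' n := by
  refine ⟨fun r hr hn => ?_, fun r s hr hs hn hsn ⟨x, hx⟩ => ?_, h.not_two_dvd, h.one_lt⟩
  · rw [← Nat.card_congr e.toEquiv]
    exact h.dvd r hr hn
  · exact h.iso r s hr hs hn hsn ⟨e.symm x, by rw [← hx, MulEquiv.orderOf_eq]⟩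

theorem Ip.of_same {L : Type v} [Group L] {G : Type u} [Group G] (hG : SameG L G) {n : ℕ} (h : Ip L n) : Ip G n := by
  refine ⟨fun r hr hn => (hG.1 r hr).1 (h.dvd r hr hn), fun r s hr hs hn hsn hx => ?_, h.not_two_dvd, h.one_lt⟩
  have hrs : r ≠ s := by
    rintro rfl
    exact hsn hn
  exact h.iso r s hr hs hn hsn ((hG.2 r s hr hs hrs).2 hx)

/-- **Fixed vectors**: in every nonzero module in characteristic `r`, some element of prime order dividing `n` fixes a
nonzero vector. -/
def Fix (L : Type v) [Group L] (r n : ℕ) : Prop :=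
  ∀ (V : Type w) [AddCommGroup V] [Module (ZMod r) V] [Finite V] [Nontrivial V] (ρ : L →* (V ≃ₗ[ZMod r] V)),
    ∃ x : L, (orderOf x).Prime ∧ orderOf x ∣ n ∧ ∃ v : V, v ≠ 0 ∧ ρ x v = v

/-- **Fixed vectors**, exact order: in every nonzero module in characteristic `r` some element of order `t` fixes a
nonzero vector. -/
def FixT (L : Type v) [Group L] (r t : ℕ) : Prop :=
  ∀ (V : Type w) [AddCommGroup V] [Module (ZMod r) V] [Finite V] [Nontrivial V] (ρ : L →* (V ≃ₗ[ZMod r] V)),
    ∃ x : L, orderOf x = t ∧ ∃ v : V, v ≠ 0 ∧ ρ x v = v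

/-- What is known about the simple group `S` of the frame (`L` is the group of the statement). -/
structure Hyp (L : Type v) [Group L] (S : Type u) [Group S] (n₁ n₂ : ℕ) : Prop where
  /-- the primes -/
  pi : ∀ r : ℕ, r.Prime → r ∣ Nat.card S → r ∣ Nat.card L
  /-- adjacent primes of `S` are adjacent in `L` -/
  adj : ∀ r s : ℕ, r.Prime → s.Prime → r ≠ s → (∃ x : S, orderOf x = r * s) → ∃ x : L, orderOf x = r * s
  i₁ : Ip S n₁
  i₂ : Ip S n₂
  /-- of every coclique of `L` with at least three primes, all primes but at most one divide `|S|` -/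
  coc : ∀ ρ : Finset ℕ, (∀ r ∈ ρ, r.Prime ∧ r ∣ Nat.card L) →
    (∀ r ∈ ρ, ∀ s ∈ ρ, r ≠ s → ¬ ∃ x : L, orderOf x = r * s) → 3 ≤ ρ.card →
    ∀ p ∈ ρ, ∀ q ∈ ρ, ¬ p ∣ Nat.card S → ¬ q ∣ Nat.card S → p = q

/-- The frame: a finite group `G` with the prime graph of `L`, which has even order and two coprime isolated odd
numbers. -/
def Frm : Prop := ∀ (L : Type v) [Group L] (G : Type u) [Group G] [Finite G] (n₁ n₂ : ℕ), SameG L G →
  2 ∣ Nat.card L → Ip L n₁ → Ip L n₂ → Nat.Coprime n₁ n₂ →
  ∃ (K : Subgroup G) (_ : K.Normal), Group.IsSolvable K ∧ (Nat.card K).Coprime (n₁ * n₂) ∧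
    ∃ (S : Subgroup (G ⧸ K)) (_ : S.Normal), IsSimpleGroup S ∧ ¬ IsMulCommutative S ∧
    Subgroup.centralizer (S : Set (G ⧸ K)) = ⊥ ∧ Hyp L S n₁ n₂

/-- The identification. -/
def Ident (L : Type v) [Group L] (n₁ n₂ : ℕ) : Prop :=
  ∀ (S : Type u) [Group S] [Finite S], IsSimpleGroup S → ¬ IsMulCommutative S → Hyp L S n₁ n₂ → Nonempty (S ≃* L)

/-- The conclusion of S3635. -/
def Concl (L : Type v) [Group L] : Prop := ∀ (G : Type u) [Group G] [Finite G], SameG L G →
  ∃ N : Subgroup G, N.Normal ∧ Nonempty (↥N ≃* L) ∧ Subgroup.centralizer (N : Set G) = ⊥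

end Cfsg.Agent.H415.PG3
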